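import Groth.Agent.Lib.Helper2.AffStrat.BlowUp

/-!
# Čech computation on `Proj` of a Rees algebra of a two-generated ideal (helper2)
-/

set_option autoImplicit false
set_option linter.style.haveILetI false
universe u

open CategoryTheory CategoryTheory.Limits AlgebraicGeometry TopologicalSpace Opposite
  HomogeneousLocalization

namespace Groth.Agent.Lib.Helper2.AffStrat

open Groth.Agent.Lib.Helper17.ReesAlg Groth.Agent.Lib.Helper17.ProjRees

variable {A : Type u} [CommRing A] (I : Ideal A)

/-- homogeneous elements of degree `m` of the Rees algebra lie in the `m`-th power of the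
irrelevant ideal. -/
lemma mem_irrelevant_pow : ∀ (m : ℕ) (c : A) (hc : c ∈ I ^ m),
    mon I m c hc ∈ (HomogeneousIdeal.irrelevant (Rees.deg (reesAlgebra I))).toIdeal ^ m := by
  intro m
  induction m with
  | zero =>
    intro c hc
    rw [pow_zero, Ideal.one_eq_top]; trivial
  | succ m ih =>
    intro c hc
    have hpow : I * I ^ m = I ^ (m + 1) := (pow_succ' I m).symm
    have hc' : c ∈ I * I ^ m := by rw [hpow]; exact hc
    refine Submodule.mul_induction_on' (C := fun c hc =>
      mon I (m + 1) c (by rw [← hpow]; exact hc) ∈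
        (HomogeneousIdeal.irrelevant (Rees.deg (reesAlgebra I))).toIdeal ^ (m + 1)) ?_ ?_ hc'
    · intro a ha d hd
      have e : mon I (m + 1) (a * d) (by rw [← hpow]; exact Ideal.mul_mem_mul ha hd) =
          aX I a ha * mon I m d hd := by
        rw [aX, mon_mul]
        apply Subtype.ext
        rw [coe_mon, coe_mon, add_comm]
      rw [e, pow_succ']
      refine Ideal.mul_mem_mul ?_ (ih d hd)
      exact HomogeneousIdeal.mem_irrelevant_of_mem _ one_pos (aX_mem I a ha)
    · intro x hx y hy h1 h2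
      have e : mon I (m + 1) (x + y) (by rw [← hpow]; exact add_mem hx hy) =
          mon I (m + 1) x (by rw [← hpow]; exact hx) + mon I (m + 1) y (by rw [← hpow]; exact hy) := by
        apply Subtype.ext
        rw [Subalgebra.coe_add, coe_mon, coe_mon, coe_mon, map_add]
      rw [e]
      exact add_mem h1 h2

variable (g : Fin 2 → A) (hI : I = Ideal.span (Set.range g))

/-- membership of the generators. -/
lemma g_mem (hI : I = Ideal.span (Set.range g)) (i : Fin 2) : g i ∈ I := by
  rw [hI]; exact Ideal.subset_span ⟨i, rfl⟩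

/-- a homogeneous element of degree `n + n` is `uⁿ p + vⁿ q` with `p`, `q` of degree `n`. -/
lemma exists_decomp (n : ℕ) (w : reesAlgebra I) (hw : w ∈ Rees.deg (reesAlgebra I) (n + n)) :
    ∃ p q : reesAlgebra I, p ∈ Rees.deg (reesAlgebra I) n ∧ q ∈ Rees.deg (reesAlgebra I) n ∧
      w = aX I (g 0) (g_mem I g hI 0) ^ n * p + aX I (g 1) (g_mem I g hI 1) ^ n * q := by
  classical
  set u := aX I (g 0) (g_mem I g hI 0) with hu
  set v := aX I (g 1) (g_mem I g hI 1) with hv
  obtain ⟨c, hc, rfl⟩ := exists_mon_of_mem_deg I (n + n) w hw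
  have h1 := mem_irrelevant_pow I (n + n) c hc
  have h2 : (HomogeneousIdeal.irrelevant (Rees.deg (reesAlgebra I))).toIdeal ≤
      Ideal.span {u} ⊔ Ideal.span {v} := by
    refine (irrelevant_le_span_of_span A I g hI).trans ?_
    rw [Ideal.span_le]
    rintro _ ⟨i, rfl⟩
    fin_cases i
    · exact Ideal.mem_sup_left (Ideal.subset_span rfl)
    · exact Ideal.mem_sup_right (Ideal.subset_span rfl)
  have h3 := (Ideal.pow_right_mono h2 (n + n)).trans Ideal.sup_pow_add_le_pow_sup_pow h1
  rw [Ideal.span_singleton_pow, Ideal.span_singleton_pow, Submodule.mem_sup] at h3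
  obtain ⟨a, ha, b, hb, hab⟩ := h3
  obtain ⟨p', rfl⟩ := Ideal.mem_span_singleton'.mp ha
  obtain ⟨q', rfl⟩ := Ideal.mem_span_singleton'.mp hb
  have hun : u ^ n ∈ Rees.deg (reesAlgebra I) n := by
    have := SetLike.pow_mem_graded n (aX_mem I (g 0) (g_mem I g hI 0))
    simpa using this
  have hvn : v ^ n ∈ Rees.deg (reesAlgebra I) n := by
    have := SetLike.pow_mem_graded n (aX_mem I (g 1) (g_mem I g hI 1))
    simpa using this
  refine ⟨DirectSum.decompose (Rees.deg (reesAlgebra I)) p' n,
    DirectSum.decompose (Rees.deg (reesAlgebra I)) q' n, Subtype.prop _, Subtype.prop _, ?_⟩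
  have e1 := DirectSum.decompose_of_mem_same (Rees.deg (reesAlgebra I)) hw
  have e2 : (DirectSum.decompose (Rees.deg (reesAlgebra I)) (mon I (n + n) c hc) (n + n) :
      reesAlgebra I) =
      u ^ n * DirectSum.decompose (Rees.deg (reesAlgebra I)) p' n +
        v ^ n * DirectSum.decompose (Rees.deg (reesAlgebra I)) q' n := by
    rw [← hab, DirectSum.decompose_add, DirectSum.add_apply, AddMemClass.coe_add,
      mul_comm p', mul_comm q',
      DirectSum.coe_decompose_mul_add_of_left_mem (Rees.deg (reesAlgebra I)) hun,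
      DirectSum.coe_decompose_mul_add_of_left_mem (Rees.deg (reesAlgebra I)) hvn]
  rw [← e1]
  exact e2


section Cech

variable {I}

/-- the first generator in degree one -/
noncomputable abbrev uu : reesAlgebra I := aX I (g 0) (g_mem I g hI 0)

/-- the second generator in degree one -/
noncomputable abbrev vv : reesAlgebra I := aX I (g 1) (g_mem I g hI 1)

lemma uu_mem : uu g hI ∈ Rees.deg (reesAlgebra I) 1 := aX_mem I _ _

lemma vv_mem : vv g hI ∈ Rees.deg (reesAlgebra I) 1 := aX_mem I _ _

lemma uv_mem : uu g hI * vv g hI ∈ Rees.deg (reesAlgebra I) (1 + 1) :=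
  SetLike.mul_mem_graded (uu_mem g hI) (vv_mem g hI)

/-- every element of `(R_{uv})₀` is a sum of images of elements of `(R_u)₀` and `(R_v)₀`. -/
theorem away_decomp (z : Away (Rees.deg (reesAlgebra I)) (uu g hI * vv g hI)) :
    ∃ (a : Away (Rees.deg (reesAlgebra I)) (uu g hI)) (b : Away (Rees.deg (reesAlgebra I)) (vv g hI)),
      z = awayMap (Rees.deg (reesAlgebra I)) (vv_mem g hI) (rfl : uu g hI * vv g hI = _) a +
        awayMap (Rees.deg (reesAlgebra I)) (uu_mem g hI)
          (mul_comm _ _ : uu g hI * vv g hI = vv g hI * uu g hI) b := by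
  obtain ⟨n, w, hw, rfl⟩ := Away.mk_surjective (Rees.deg (reesAlgebra I)) (uv_mem g hI) z
  have hw' : w ∈ Rees.deg (reesAlgebra I) (n + n) := by
    have e : n • (1 + 1) = n + n := by simp; omega
    rw [← e]; exact hw
  obtain ⟨p, q, hp, hq, hpq⟩ := exists_decomp I g hI n w hw'
  have hp1 : p ∈ Rees.deg (reesAlgebra I) (n • 1) := by simpa using hp
  have hq1 : q ∈ Rees.deg (reesAlgebra I) (n • 1) := by simpa using hq
  refine ⟨Away.mk _ (uu_mem g hI) n q hq1, Away.mk _ (vv_mem g hI) n p hp1, ?_⟩
  rw [awayMap_mk, awayMap_mk]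
  apply HomogeneousLocalization.val_injective
  rw [HomogeneousLocalization.val_add, Away.val_mk, Away.val_mk, Away.val_mk,
    Localization.add_mk_self]
  congr 1
  rw [hpq]
  ring

/-- Čech decomposition of functions on `D₊(uv)`. -/
theorem proj_sections_decomp
    (c : Γ(Proj (Rees.deg (reesAlgebra I)),
      Proj.basicOpen (Rees.deg (reesAlgebra I)) (uu g hI * vv g hI))) :
    ∃ (a : Γ(Proj (Rees.deg (reesAlgebra I)), Proj.basicOpen (Rees.deg (reesAlgebra I)) (uu g hI)))
      (b : Γ(Proj (Rees.deg (reesAlgebra I)), Proj.basicOpen (Rees.deg (reesAlgebra I)) (vv g hI))),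
      c = (Proj (Rees.deg (reesAlgebra I))).presheaf.map
            (homOfLE (Proj.basicOpen_mono _ _ _ ⟨vv g hI, rfl⟩)).op a +
          (Proj (Rees.deg (reesAlgebra I))).presheaf.map
            (homOfLE (Proj.basicOpen_mono _ _ _ ⟨uu g hI, mul_comm _ _⟩)).op b := by
  let e := Proj.basicOpenIsoAway (Rees.deg (reesAlgebra I)) (uu g hI * vv g hI) (uv_mem g hI)
    (by norm_num : 0 < 1 + 1)
  obtain ⟨z, rfl⟩ : ∃ z, (Proj.awayToSection (Rees.deg (reesAlgebra I)) (uu g hI * vv g hI)).hom z = c := by
    refine ⟨e.inv.hom c, ?_⟩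
    have h1 : e.inv ≫ e.hom = 𝟙 _ := e.inv_hom_id
    exact congrArg (fun φ => φ.hom c) h1
  obtain ⟨a, b, rfl⟩ := away_decomp g hI z
  refine ⟨(Proj.awayToSection (Rees.deg (reesAlgebra I)) (uu g hI)).hom a,
    (Proj.awayToSection (Rees.deg (reesAlgebra I)) (vv g hI)).hom b, ?_⟩
  rw [map_add]
  have h1 := congrArg (fun φ => φ.hom a) (Proj.awayMap_awayToSection (Rees.deg (reesAlgebra I))
    (f := uu g hI) (vv_mem g hI) (rfl : uu g hI * vv g hI = _))
  have h2 := congrArg (fun φ => φ.hom b) (Proj.awayMap_awayToSection (Rees.deg (reesAlgebra I))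
    (f := vv g hI) (uu_mem g hI) (mul_comm _ _ : uu g hI * vv g hI = vv g hI * uu g hI))
  exact congrArg₂ (· + ·) h1 h2

end Cech

end Groth.Agent.Lib.Helper2.AffStrat
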