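import Groth.Agent.Lib.Helper2.AffStrat.TwoAff
import Groth.Agent.Lib.Helper2.AffStrat.GGSpan
import Groth.Agent.Lib.Helper2.AffStrat.ProjTwo

/-!
# `H¹` of globally generated modules on a blow-up in a two-generated ideal vanishes (helper2)
-/

set_option autoImplicit false
set_option linter.style.haveILetI false
universe u

open CategoryTheory CategoryTheory.Limits AlgebraicGeometry TopologicalSpace Opposite
  HomogeneousLocalization

namespace Groth.Agent.Lib.Helper2.AffStrat

open Groth.Agent.Lib.Helper17.ReesAlg Groth.Agent.Lib.Helper17.ProjRees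
  Groth.Agent.Lib.Helper17.StrictTransform Groth.Agent.Lib.Helper3 Groth.Agent.Lib.Helper3.QCSec

variable (A : Type u) [CommRing A] (I : Ideal A)

theorem subsingleton_H1_of_isBlowUp_pair (g : Fin 2 → A) (hI : I = Ideal.span (Set.range g))
    {X : Scheme.{u}} (b : X ⟶ Spec (CommRingCat.of A))
    (hb : BlowUp.IsBlowUp b (Curv2.idealSheaf A I)) (F : X.Modules) [F.IsQuasicoherent]
    (hgg : Curv2.IsGloballyGenerated F) : Subsingleton (Coh.HH X F 1) := by
  have hstrat := hasAffineStratification_of_isBlowUp A I g hI b hb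
  haveI := compactSpace_of_strat X 1 hstrat
  haveI := quasiSeparatedSpace_of_strat X 1 hstrat
  obtain ⟨φ, hφ⟩ := isBlowUp_iso _ _ _ hb (isBlowUp_proj_reesAlgebra A I)
  haveI : IsSeparated b := by
    rw [← hφ]; infer_instance
  -- the two charts
  have hDU := Proj.isAffineOpen_basicOpen (Rees.deg (reesAlgebra I)) (uu g hI) (uu_mem g hI)
    one_pos
  have hDV := Proj.isAffineOpen_basicOpen (Rees.deg (reesAlgebra I)) (vv g hI) (vv_mem g hI)
    one_pos
  have hDW := Proj.isAffineOpen_basicOpen (Rees.deg (reesAlgebra I)) (uu g hI * vv g hI)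
    (uv_mem g hI) (by norm_num : 0 < 1 + 1)
  have hU : IsAffineOpen (φ.hom ⁻¹ᵁ Proj.basicOpen (Rees.deg (reesAlgebra I)) (uu g hI)) :=
    hDU.preimage φ.hom
  have hV : IsAffineOpen (φ.hom ⁻¹ᵁ Proj.basicOpen (Rees.deg (reesAlgebra I)) (vv g hI)) :=
    hDV.preimage φ.hom
  haveI : IsAffineHom (φ.hom ⁻¹ᵁ Proj.basicOpen (Rees.deg (reesAlgebra I)) (uu g hI)).ι := by
    haveI : IsAffine (φ.hom ⁻¹ᵁ Proj.basicOpen (Rees.deg (reesAlgebra I)) (uu g hI)).toScheme := hU
    haveI : IsAffineHom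
        ((φ.hom ⁻¹ᵁ Proj.basicOpen (Rees.deg (reesAlgebra I)) (uu g hI)).ι ≫ b) := inferInstance
    exact IsAffineHom.of_comp _ b
  apply subsingleton_H1_of_two_affines _ _ hU hV _ F
  · -- the Čech condition
    intro W hWU hWV hW s
    obtain rfl : W = φ.hom ⁻¹ᵁ Proj.basicOpen (Rees.deg (reesAlgebra I)) (uu g hI * vv g hI) := by
      rw [Proj.basicOpen_mul]
      exact le_antisymm (le_inf hWU hWV) hW
    have hWaff : IsAffineOpen
        (φ.hom ⁻¹ᵁ Proj.basicOpen (Rees.deg (reesAlgebra I)) (uu g hI * vv g hI)) :=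
      hDW.preimage φ.hom
    -- decomposition of functions
    have hfun : ∀ c : Γ(X, φ.hom ⁻¹ᵁ Proj.basicOpen (Rees.deg (reesAlgebra I))
        (uu g hI * vv g hI)), ∃ (α : Γ(X, φ.hom ⁻¹ᵁ Proj.basicOpen (Rees.deg (reesAlgebra I))
          (uu g hI))) (β : Γ(X, φ.hom ⁻¹ᵁ Proj.basicOpen (Rees.deg (reesAlgebra I)) (vv g hI))),
        c = rres X hWU α + rres X hWV β := by
      intro c
      obtain ⟨c₀, rfl⟩ : ∃ c₀, (φ.hom.app (Proj.basicOpen (Rees.deg (reesAlgebra I))
          (uu g hI * vv g hI))).hom c₀ = c := by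
        refine ⟨(inv (φ.hom.app (Proj.basicOpen (Rees.deg (reesAlgebra I))
          (uu g hI * vv g hI)))).hom c, ?_⟩
        have h1 := IsIso.inv_hom_id (φ.hom.app (Proj.basicOpen (Rees.deg (reesAlgebra I))
          (uu g hI * vv g hI)))
        exact congrArg (fun ψ => ψ.hom c) h1
      obtain ⟨a₀, b₀, rfl⟩ := proj_sections_decomp g hI c₀
      refine ⟨(φ.hom.app _).hom a₀, (φ.hom.app _).hom b₀, ?_⟩
      rw [map_add]
      have n1 := congrArg (fun ψ => ψ.hom a₀) (φ.hom.naturality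
        (homOfLE (Proj.basicOpen_mono (Rees.deg (reesAlgebra I)) _ _ ⟨vv g hI, rfl⟩)).op)
      have n2 := congrArg (fun ψ => ψ.hom b₀) (φ.hom.naturality
        (homOfLE (Proj.basicOpen_mono (Rees.deg (reesAlgebra I)) _ _
          ⟨uu g hI, (mul_comm _ _ : uu g hI * vv g hI = vv g hI * uu g hI)⟩)).op)
      exact congrArg₂ (· + ·) n1 n2
    obtain ⟨J, σ, hσ⟩ := exists_span_of_isGloballyGenerated F hgg
    have hs := hσ _ hWaff s
    refine Submodule.closure_induction (p := fun s _ => ∃ (a : Γ(F, _)) (b : Γ(F, _)),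
      s = res F hWU a + res F hWV b) ?_ ?_ ?_ hs
    · exact ⟨0, 0, by rw [res_zero, res_zero, add_zero]⟩
    · rintro x y _ _ ⟨a1, b1, rfl⟩ ⟨a2, b2, rfl⟩
      refine ⟨a1 + a2, b1 + b2, ?_⟩
      have e1 : res F hWU (a1 + a2) = res F hWU a1 + res F hWU a2 := map_add _ _ _
      have e2 : res F hWV (b1 + b2) = res F hWV b1 + res F hWV b2 := map_add _ _ _
      rw [e1, e2]
      abel
    · rintro r _ ⟨i, rfl⟩
      obtain ⟨α, β, rfl⟩ := hfun r
      refine ⟨α • res F le_top (σ i), β • res F le_top (σ i), ?_⟩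
      rw [res_smul, res_smul, res_res, res_res, add_smul]
  · -- covering
    intro x
    have h := Proj.iSup_basicOpen_eq_top (Rees.deg (reesAlgebra I))
      (fun i : Fin 2 => aX I (g i) (g_mem I g hI i)) (irrelevant_le_span_of_span A I g hI)
    have hx : φ.hom x ∈ (⊤ : (Proj (Rees.deg (reesAlgebra I))).Opens) := trivial
    rw [← h] at hx
    obtain ⟨i, hi⟩ := Opens.mem_iSup.1 hx
    fin_cases i
    · left; exact hi
    · right; exact hi

end Groth.Agent.Lib.Helper2.AffStrat
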