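import Groth.Agent.Lib.Helper2.AffStrat.Main
import Groth.Agent.Lib.Helper3.InvGen

/-!
# `H¹` on a scheme covered by two affine opens (helper2)
-/

set_option autoImplicit false
set_option linter.style.haveILetI false
universe u

open CategoryTheory CategoryTheory.Limits AlgebraicGeometry TopologicalSpace Opposite

namespace Groth.Agent.Lib.Helper2.AffStrat

open Groth.Agent.Lib.Helper3 Groth.Agent.Lib.Helper3.QCSec Groth.Agent.Lib.Helper17
  Groth.Agent.Lib.Helper23 Groth.Agent.Lib.Helper23.T2 Groth.Agent.Lib.Helper23.FBC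
  Groth.Agent.Lib.Helper13

variable {X : Scheme.{u}}

/-- a closed subscheme whose support lies in an affine open is affine. -/
lemma isAffine_subscheme_of_support_le (J : X.IdealSheafData) (V : X.Opens) (hV : IsAffineOpen V)
    (h : ∀ x ∈ J.support, x ∈ V) : IsAffine J.subscheme := by
  have hr : Set.range J.subschemeι ⊆ Set.range V.ι := by
    rw [Scheme.Opens.range_ι, Scheme.IdealSheafData.range_subschemeι]
    exact fun x hx => h x hx
  let l : J.subscheme ⟶ V.toScheme := IsOpenImmersion.lift V.ι J.subschemeι hr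
  have hl : l ≫ V.ι = J.subschemeι := IsOpenImmersion.lift_fac _ _ _
  haveI : IsClosedImmersion (l ≫ V.ι) := by rw [hl]; infer_instance
  haveI : IsClosedImmersion l := IsClosedImmersion.of_comp l V.ι
  haveI : IsAffine V.toScheme := hV
  exact isAffine_of_isAffineHom l

/-- **`H¹` criterion.** On a qcqs scheme covered by two affine opens `U`, `V` (with `U ⟶ X` affine),
`H¹(X, F) = 0` for a quasi-coherent `F` as soon as every section over `U ∩ V` is a sum of a section
over `U` and a section over `V`. -/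
theorem subsingleton_H1_of_two_affines [CompactSpace X] [QuasiSeparatedSpace X] (U V : X.Opens)
    (hU : IsAffineOpen U) [IsAffineHom U.ι] (hV : IsAffineOpen V) (hcov : ∀ x : X, x ∈ U ∨ x ∈ V)
    (F : X.Modules) [F.IsQuasicoherent]
    (hsurj : ∀ (W : X.Opens) (hWU : W ≤ U) (hWV : W ≤ V), U ⊓ V ≤ W → ∀ s : Γ(F, W),
      ∃ (a : Γ(F, U)) (b : Γ(F, V)), s = res F hWU a + res F hWV b) :
    Subsingleton (Coh.HH X F 1) := by
  let u := Hartogs.unit F U
  haveI : (PR U F).IsQuasicoherent := inferInstance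
  haveI hQ : (cokernel u).IsQuasicoherent := QCProps.isQuasicoherent_cokernel _
  haveI hI : (kernel (cokernel.π u)).IsQuasicoherent := QCProps.isQuasicoherent_kernel _
  let e : F ⟶ kernel (cokernel.π u) := kernel.lift (cokernel.π u) u (cokernel.condition u)
  have he : e ≫ kernel.ι (cokernel.π u) = u := kernel.lift_ι _ _ _
  haveI : Epi e := inferInstanceAs (Epi (Abelian.factorThruImage u))
  haveI hK : (kernel e).IsQuasicoherent := QCProps.isQuasicoherent_kernel _
  let S1 : ShortComplex X.Modules := ShortComplex.mk (kernel.ι e) e (kernel.condition e)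
  have hS1 : S1.ShortExact :=
    { exact := ShortComplex.exact_kernel e
      mono_f := inferInstanceAs (Mono (kernel.ι e))
      epi_g := inferInstanceAs (Epi e) }
  let S2 : ShortComplex X.Modules :=
    ShortComplex.mk (kernel.ι (cokernel.π u)) (cokernel.π u) (kernel.condition _)
  have hS2 : S2.ShortExact :=
    { exact := ShortComplex.exact_kernel (cokernel.π u)
      mono_f := inferInstanceAs (Mono (kernel.ι (cokernel.π u)))
      epi_g := inferInstanceAs (Epi (cokernel.π u)) }
  have hKv : VanOn U (kernel e) := by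
    apply vanOn_of_comp_unit_eq_zero U F (kernel.ι e)
    change kernel.ι e ≫ u = 0
    have h0 : kernel.ι e ≫ u = kernel.ι e ≫ e ≫ kernel.ι (cokernel.π u) := by rw [he]
    rw [h0, ← Category.assoc, kernel.condition, zero_comp]
  have hQv : VanOn U (cokernel u) := vanOn_cokernel U F
  -- closed subschemes missing `U` are affine
  have hT : ∀ J : X.IdealSheafData, (∀ x ∈ J.support, x ∉ U) →
      ∀ N : J.subscheme.Modules, N.IsQuasicoherent → Subsingleton (Coh.HH J.subscheme N 1) := by
    intro J hJ N hN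
    haveI := hN
    haveI := isAffine_subscheme_of_support_le J V hV
      (fun x hx => (hcov x).resolve_left (hJ x hx))
    exact AffineVanish.subsingleton_HH_of_isAffine J.subscheme N 0
  haveI h1 : Subsingleton (Coh.HH X (kernel e) 1) := subsingleton_HH_of_vanOn U 1 hT _ hKv
  haveI h3 : Subsingleton (Coh.HH X (PR U F) 1) :=
    subsingleton_HH_push hU ((Scheme.Modules.restrictFunctor U.ι).obj F) 0
  -- surjectivity of global sections `Γ(j_* j^* F) → Γ(Q)`
  have hπsurj : ∀ q : Coh.HH X (cokernel u) 0, ∃ t : Coh.HH X (PR U F) 0,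
      Hmap (cokernel.π u) 0 t = q := by
    intro q0
    obtain ⟨q, rfl⟩ := (H0equiv (cokernel u)).symm.surjective q0
    obtain ⟨q, rfl⟩ : ∃ q' : Γ(cokernel u, ⊤), q' = q := ⟨q, rfl⟩
    -- lift over `V`
    have hsV := (QCExact.epi_iff_surjective_on_affines (cokernel.π u)).mp inferInstance V hV
    obtain ⟨s, hs⟩ := hsV (res (cokernel u) (le_top : V ≤ ⊤) q)
    have hW0U : U.ι ''ᵁ (U.ι ⁻¹ᵁ V) ≤ U := by
      rw [Hartogs.image_preimage_eq_inf]; exact inf_le_right
    have hW0V : U.ι ''ᵁ (U.ι ⁻¹ᵁ V) ≤ V := U.ι.image_preimage_le V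
    have hW0 : U ⊓ V ≤ U.ι ''ᵁ (U.ι ⁻¹ᵁ V) := by
      rw [Hartogs.image_preimage_eq_inf, inf_comm]
    obtain ⟨s', hs'⟩ : ∃ s' : Γ(F, U.ι ''ᵁ (U.ι ⁻¹ᵁ V)), s' = s := ⟨s, rfl⟩
    obtain ⟨a, b, hab⟩ := hsurj _ hW0U hW0V hW0 s'
    have hW1U : U.ι ''ᵁ (U.ι ⁻¹ᵁ ⊤) ≤ U := by
      rw [Hartogs.image_preimage_eq_inf]; exact inf_le_right
    obtain ⟨t, ht⟩ : ∃ t : Γ(PR U F, ⊤), t = res F hW1U a := ⟨res F hW1U a, rfl⟩
    refine ⟨(H0equiv (PR U F)).symm t, ?_⟩
    rw [H0equiv_symm_naturality]
    congr 1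
    change (cokernel.π u).app ⊤ t = q
    apply InvGen.sec_eq_of_locally_eq (cokernel u) (fun b : ULift.{u} Bool => cond b.down U V) ⊤
      (fun _ => le_top)
    · intro x _
      rw [Opens.mem_iSup]
      rcases hcov x with hx | hx
      · exact ⟨⟨true⟩, hx⟩
      · exact ⟨⟨false⟩, hx⟩
    · rintro ⟨_ | _⟩
      · -- over `V`
        change res (cokernel u) (le_top : V ≤ ⊤) ((cokernel.π u).app ⊤ t) =
          res (cokernel u) (le_top : V ≤ ⊤) q
        rw [← hs, ← QCExact.app_res']
        have hle01 : U.ι ''ᵁ (U.ι ⁻¹ᵁ V) ≤ U.ι ''ᵁ (U.ι ⁻¹ᵁ ⊤) :=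
          (U.ι.opensFunctor.map ((Opens.map U.ι.base).map (homOfLE (le_top : V ≤ ⊤)))).le
        have e0 : res (PR U F) (le_top : V ≤ ⊤) t = res F hW0U a := by
          rw [ht]
          change res F hle01 (res F hW1U a) = res F hW0U a
          exact res_res F hle01 hW1U a
        have e2 : u.app V b = res F hW0V b := rfl
        have e1 : res (PR U F) (le_top : V ≤ ⊤) t = s - u.app V b := by
          have h4 : res F hW0U a = s' - res F hW0V b := by rw [hab, add_sub_cancel_right]
          rw [hs'] at h4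
          exact e0.trans (h4.trans (congrArg (fun z => s - z) e2.symm))
        rw [e1, QCExact.app_sub]
        have e3 : (cokernel.π u).app V (u.app V b) = 0 := by
          have h : (u ≫ cokernel.π u).app V b = 0 := by rw [cokernel.condition]; rfl
          exact h
        rw [e3, sub_zero]
      · -- over `U`
        exact @Subsingleton.elim _ (hQv U hU le_rfl) _ _
  suffices ∀ x : Coh.HH X F 1, x = 0 from ⟨fun a b => by rw [this a, this b]⟩
  intro x
  have hy : Hmap e 1 x = 0 := by
    obtain ⟨q, hq⟩ := exact₁ S2 hS2 0 (Hmap e 1 x) (Subsingleton.elim _ _)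
    obtain ⟨t, rfl⟩ := hπsurj q
    rw [← hq]
    exact Hδ_Hmap_g S2 hS2 0 t
  obtain ⟨k, rfl⟩ := exact₂ S1 hS1 1 x hy
  rw [Subsingleton.elim k 0, map_zero]

end Groth.Agent.Lib.Helper2.AffStrat
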